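import Groth.Agent.UnivOpenDesc.Criterion
import Groth.Agent.ConsPropLib.Cores
import Groth.Agent.MorLib.Descend

/-! Universally open and locally quasi-finite descends along limits. -/

set_option autoImplicit false
set_option linter.style.haveILetI false

open CategoryTheory CategoryTheory.Limits AlgebraicGeometry Groth.Agent.MorLib Groth.Agent.MorLib.Desc

namespace Groth.Agent.UnivOpenDesc

universe u

theorem isOpen_preimage_comp {X Y Z : Scheme.{u}} {f : X ⟶ Y} {g : Y ⟶ Z} {h : X ⟶ Z} (e : f ≫ g = h)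
    (C : Set Z) : IsOpen (h ⁻¹' C) ↔ IsOpen (f ⁻¹' (g ⁻¹' C)) := by
  subst e
  rfl

theorem affine_core {I : Type u} [SmallCategory I] [IsCofiltered I] (D : I ⥤ Scheme.{u}) (c : Cone D)
    (hc : IsLimit c) [∀ {i j : I} (f : i ⟶ j), IsAffineHom (D.map f)] (i : I) [IsAffine (D.obj i)]
    {X₀ : Scheme.{u}} [IsAffine X₀] (f₀ : X₀ ⟶ D.obj i) [LocallyOfFinitePresentation f₀]
    [LocallyQuasiFinite f₀] (h : UniversallyOpen (pullback.snd f₀ (c.π.app i))) :
    ∃ (j : I) (φ : j ⟶ i), UniversallyOpen (pullback.snd f₀ (D.map φ)) := by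
  obtain ⟨T, _, g₀, C, hC, hiff⟩ := exists_criterion f₀
  haveI : IsAffineHom (c.π.app i) := isAffineHom_π_app D c hc i
  haveI : IsAffine c.pt := isAffine_of_isAffineHom (c.π.app i)
  haveI : IsAffine (((Functor.const I).obj c.pt).obj i) := ‹IsAffine c.pt›
  have hY := IsPullback.of_hasPullback g₀ (c.π.app i)
  have hopen : IsOpen (pullback.fst g₀ (c.π.app i) ⁻¹' C) := (hiff (c.π.app i)).1 h
  let T0 : Over i := Over.mk (𝟙 i)
  haveI : ∀ {j k : Over i} (f : j ⟶ k), IsAffineHom ((BC.diag D g₀).map f) := fun f =>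
    BC.isAffineHom_map D g₀ f
  haveI : CompactSpace ((BC.diag D g₀).obj T0) := BC.compactSpace_obj D g₀ T0
  have hC' := EGA41Lib.lc_iff.1 hC.isLocallyConstructible
  let u₀ : (BC.diag D g₀).obj T0 ⟶ T := pullback.fst g₀ (D.map T0.hom)
  have e0 : (BC.cone D g₀ hY).π.app T0 ≫ u₀ = pullback.fst g₀ (c.π.app i) := BC.proj_fst D g₀ hY T0
  obtain ⟨j, ω, hj⟩ := LimCons.exists_isOpen (D := BC.diag D g₀) (c := BC.cone D g₀ hY)
    (BC.isLimitCone D g₀ hY hc) T0 (Z := u₀ ⁻¹' C)
    (ProConsLib.preimage hC'.2 u₀) (LimPro.isIndConstructible_preimage hC'.1 u₀) (by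
      exact (isOpen_preimage_comp e0 C).1 hopen)
  refine ⟨j.left, j.hom, ?_⟩
  haveI : IsAffine (D.obj j.left) := isAffine_of_isAffineHom (D.map j.hom)
  refine (hiff (D.map j.hom)).2 ?_
  have e1 : (BC.diag D g₀).map ω ≫ u₀ = pullback.fst g₀ (D.map j.hom) := BC.map_fst D g₀ ω
  exact (isOpen_preimage_comp e1 C).2 hj

theorem core : Core ((@UniversallyOpen : MorphismProperty Scheme.{u}) ⊓ @LocallyQuasiFinite)
    @LocallyOfFinitePresentation := by
  intro I _ _ D c hc hD i hi X₀ f₀ hcs hqs hQ h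
  haveI : ∀ {i j : I} (f : i ⟶ j), IsAffineHom (D.map f) := fun {i j} f => hD i j f
  haveI := hcs
  haveI := hqs
  haveI : LocallyOfFinitePresentation f₀ := hQ
  haveI : LocallyOfFiniteType f₀ := inferInstance
  haveI : QuasiCompact f₀ := quasiCompact_of_compactSpace f₀
  obtain ⟨i₁, φ₁, hqf⟩ := ConsPropLib.core_locallyQuasiFinite I D c hc hD i hi f₀ hcs hqs ‹_› h.2
  haveI : IsAffine (D.obj i₁) := isAffine_of_isAffineHom (D.map φ₁)
  let f₁ := pullback.snd f₀ (D.map φ₁)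
  haveI : LocallyQuasiFinite f₁ := hqf
  haveI : LocallyOfFinitePresentation f₁ := MorphismProperty.pullback_snd _ _ hQ
  haveI : QuasiCompact f₁ := MorphismProperty.pullback_snd _ _ inferInstance
  haveI : CompactSpace ↥(pullback f₀ (D.map φ₁)) := QuasiCompact.compactSpace_of_compactSpace f₁
  haveI huo : UniversallyOpen (pullback.snd f₁ (c.π.app i₁)) :=
    of_two _ ((IsPullback.of_hasPullback f₀ (c.π.app i))) (by
      have := (IsPullback.of_hasPullback f₁ (c.π.app i₁)).paste_horiz (IsPullback.of_hasPullback f₀ (D.map φ₁))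
      rwa [c.w] at this) h.1
  let 𝒰 := (pullback f₀ (D.map φ₁)).affineCover.finiteSubcover
  haveI : ∀ k, IsAffine (𝒰.X k) := fun k =>
    inferInstanceAs (IsAffine ((pullback f₀ (D.map φ₁)).affineCover.X _))
  have hloc : ∀ k, ∃ (j : I) (φ : j ⟶ i₁), UniversallyOpen (pullback.snd (𝒰.f k ≫ f₁) (D.map φ)) := by
    intro k
    refine affine_core D c hc i₁ (𝒰.f k ≫ f₁) ?_
    rw [← pullbackRightPullbackFstIso_inv_snd_snd]
    infer_instance
  choose jk φk hk using hloc
  obtain ⟨j, ψ, χ, hχ⟩ := IsCofiltered.wideCospan φk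
  refine ⟨j, ψ ≫ φ₁, ?_, ?_⟩
  · have huo' : UniversallyOpen (pullback.snd f₁ (D.map ψ)) := by
      refine (IsZariskiLocalAtSource.iff_of_openCover (P := @UniversallyOpen)
        (Precoverage.ZeroHypercover.pullback₁ (pullback.fst f₁ (D.map ψ)) 𝒰)).2 fun k => ?_
      have hk' : UniversallyOpen (pullback.snd (𝒰.f k ≫ f₁) (D.map ψ)) :=
        of_factor _ (hk k) (a := D.map (χ k)) (by rw [← D.map_comp, hχ k]) (IsPullback.of_hasPullback _ _)
      refine of_two _ (fst' := pullback.snd (pullback.fst f₁ (D.map ψ)) (𝒰.f k))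
        (IsPullback.of_hasPullback (𝒰.f k ≫ f₁) (D.map ψ)) ?_ hk'
      exact (IsPullback.of_hasPullback (pullback.fst f₁ (D.map ψ)) (𝒰.f k)).flip.paste_vert
        (IsPullback.of_hasPullback f₁ (D.map ψ))
    refine of_two _ (fst := pullback.fst f₁ (D.map ψ) ≫ pullback.fst f₀ (D.map φ₁)) ?_
      (IsPullback.of_hasPullback f₀ (D.map (ψ ≫ φ₁))) huo'
    rw [D.map_comp]
    exact (IsPullback.of_hasPullback f₁ (D.map ψ)).paste_horiz (IsPullback.of_hasPullback f₀ (D.map φ₁))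
  · exact of_factor _ hqf (a := D.map ψ) (D.map_comp ψ φ₁).symm (IsPullback.of_hasPullback _ _)

end Groth.Agent.UnivOpenDesc
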