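import Mathlib
import Groth.Agent.FlatMisc.UnivOpenTest
import Groth.Agent.FlatMisc.FiniteFPEnvelope

/-! Universal openness of quasi-finite finitely presented morphisms is tested by one constructible set. -/

set_option autoImplicit false

namespace Groth.Agent.UnivOpenDesc

open AlgebraicGeometry CategoryTheory Limits MvPolynomial TensorProduct

universe u

section

variable {A B : Type u} [CommRing A] [CommRing B] [Algebra A B]

/-- A base change to an affine scheme is open iff the map of spectra of the tensor product is open. -/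
theorem isOpenMap_snd_iff (R : Type u) [CommRing R] [Algebra A R] {W : Scheme.{u}}
    {fst : W ⟶ Spec (CommRingCat.of B)} {snd : W ⟶ Spec (CommRingCat.of R)}
    (sq : IsPullback fst snd (Spec.map (CommRingCat.ofHom (algebraMap A B)))
      (Spec.map (CommRingCat.ofHom (algebraMap A R)))) :
    IsOpenMap snd ↔
      IsOpenMap (PrimeSpectrum.comap (Algebra.TensorProduct.includeLeftRingHom : R →+* R ⊗[A] B)) := by
  let e := sq.flip.isoPullback ≪≫ pullbackSpecIso A R B
  have h : snd = e.hom ≫ Spec.map (CommRingCat.ofHom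
      (Algebra.TensorProduct.includeLeftRingHom : R →+* R ⊗[A] B)) := by
    rw [← pullbackSpecIso_inv_fst]
    simp [e]
  constructor
  · intro ho
    have h2 : e.inv ≫ snd = Spec.map (CommRingCat.ofHom
        (Algebra.TensorProduct.includeLeftRingHom : R →+* R ⊗[A] B)) := by rw [h, Iso.inv_hom_id_assoc]
    have h1 : IsOpenMap (e.inv ≫ snd : Scheme.Hom _ _) := by
      rw [Scheme.Hom.comp_base, TopCat.coe_comp]
      exact ho.comp e.inv.homeomorph.isOpenMap
    rw [h2] at h1
    exact h1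
  · intro ho
    rw [h, Scheme.Hom.comp_base, TopCat.coe_comp]
    exact IsOpenMap.comp ho e.hom.homeomorph.isOpenMap

/-- Elements of a base change are, locally, combinations of the given generators. -/
theorem exists_mul_eq_sum {B' : Type u} [CommRing B'] [Algebra A B'] (θ : B' →ₐ[A] B) {d : ℕ}
    (b : Fin d → B') (hb : Submodule.span A (Set.range b) = ⊤) (g : B')
    (hg : ∀ y : B, ∃ (n : ℕ) (y' : B'), θ g ^ n * y = θ y')
    (R : Type u) [CommRing R] [Algebra A R] (z : R ⊗[A] B) :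
    ∃ (n : ℕ) (a : Fin d → R), ((1 : R) ⊗ₜ[A] θ g) ^ n * z = ∑ i, a i ⊗ₜ[A] θ (b i) := by
  let Θ : R ⊗[A] B' →ₐ[A] R ⊗[A] B := Algebra.TensorProduct.map (AlgHom.id A R) θ
  have hΘ : Θ ((1 : R) ⊗ₜ[A] g) = (1 : R) ⊗ₜ[A] θ g := by simp [Θ]
  obtain ⟨n, w, hw⟩ : ∃ (n : ℕ) (w : R ⊗[A] B'), ((1 : R) ⊗ₜ[A] θ g) ^ n * z = Θ w := by
    induction z using TensorProduct.induction_on with
    | zero => exact ⟨0, 0, by simp⟩
    | tmul x y =>
      obtain ⟨n, y', hy'⟩ := hg y
      exact ⟨n, x ⊗ₜ[A] y', by simp [Θ, hy']⟩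
    | add x y hx hy =>
      obtain ⟨n, w, hw⟩ := hx
      obtain ⟨m, w', hw'⟩ := hy
      refine ⟨n + m, ((1 : R) ⊗ₜ[A] g) ^ m * w + ((1 : R) ⊗ₜ[A] g) ^ n * w', ?_⟩
      rw [map_add, map_mul, map_mul, map_pow, map_pow, hΘ, ← hw, ← hw']
      ring
  obtain ⟨a, rfl⟩ : ∃ a : Fin d → R, w = ∑ i, a i ⊗ₜ[A] b i := by
    clear hw
    induction w using TensorProduct.induction_on with
    | zero => exact ⟨0, by simp⟩
    | tmul x y =>
      obtain ⟨t, ht⟩ := (Submodule.mem_span_range_iff_exists_fun A).1 (hb.ge (Submodule.mem_top (x := y)))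
      refine ⟨fun i => t i • x, ?_⟩
      rw [← ht, TensorProduct.tmul_sum]
      simp [TensorProduct.smul_tmul]
    | add x y hx hy =>
      obtain ⟨a, rfl⟩ := hx
      obtain ⟨a', rfl⟩ := hy
      exact ⟨a + a', by simp [TensorProduct.add_tmul, Finset.sum_add_distrib]⟩
  exact ⟨n, a, by rw [hw]; simp [Θ]⟩

theorem exists_spec_criterion [Algebra.FinitePresentation A B] [Algebra.QuasiFinite A B] :
    ∃ (d : ℕ) (C0 : Set (PrimeSpectrum (MvPolynomial (Fin d) A))),
      Topology.IsConstructible C0 ∧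
      ∀ (A' : Type u) [CommRing A'] [Algebra A A'] {W V : Scheme.{u}} (fst : W ⟶ Spec (CommRingCat.of B))
        (snd : W ⟶ Spec (CommRingCat.of A')) (p : V ⟶ Spec (CommRingCat.of (MvPolynomial (Fin d) A)))
        (q : V ⟶ Spec (CommRingCat.of A')),
        IsPullback fst snd (Spec.map (CommRingCat.ofHom (algebraMap A B)))
          (Spec.map (CommRingCat.ofHom (algebraMap A A'))) →
        IsPullback p q (Spec.map (CommRingCat.ofHom (algebraMap A (MvPolynomial (Fin d) A))))
          (Spec.map (CommRingCat.ofHom (algebraMap A A'))) →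
        (UniversallyOpen snd ↔ IsOpen (p ⁻¹' (C0 : Set (Spec (CommRingCat.of (MvPolynomial (Fin d) A)))))) := by
  classical
  obtain ⟨B', _, _, _, _, θ, m, g, hspan, hbij⟩ := FlatMisc.FiniteFP.exists_envelope A B
  obtain ⟨d, b, hb⟩ := Module.Finite.exists_fin (R := A) (M := B')
  have hloc : ∀ l (y : B), ∃ (n : ℕ) (y' : B'), θ (g l) ^ n * y = θ y' := by
    intro l y
    obtain ⟨z, hz⟩ := (hbij l).2 (algebraMap B (Localization.Away (θ.toRingHom (g l))) y)
    obtain ⟨c, ⟨_, k, rfl⟩, rfl⟩ := IsLocalization.exists_mk'_eq (Submonoid.powers (g l)) z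
    rw [Localization.awayMap, IsLocalization.Away.map, IsLocalization.map_mk', IsLocalization.mk'_eq_iff_eq_mul,
      ← map_mul, IsLocalization.eq_iff_exists (Submonoid.powers (θ.toRingHom (g l)))] at hz
    obtain ⟨⟨_, K, rfl⟩, hK⟩ := hz
    replace hK : θ (g l) ^ K * θ c = θ (g l) ^ K * (y * θ (g l ^ k)) := hK
    refine ⟨K + k, g l ^ K * c, ?_⟩
    rw [map_mul, map_pow, hK, map_pow]
    ring
  let C0 : Set (PrimeSpectrum (MvPolynomial (Fin d) A)) :=
    PrimeSpectrum.comap (MvPolynomial.map (algebraMap A B)) ''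
      (PrimeSpectrum.basicOpen (∑ i, X i * C (θ (b i))) : Set (PrimeSpectrum (MvPolynomial (Fin d) B)))
  have hC0 : Topology.IsConstructible C0 := by
    have e : C0 = PrimeSpectrum.comap
        (algebraMap (MvPolynomial (Fin d) A) (MvPolynomial (Fin d) A ⊗[A] B)) ''
        (PrimeSpectrum.basicOpen (∑ i, (X i : MvPolynomial (Fin d) A) ⊗ₜ[A] θ (b i)) :
          Set (PrimeSpectrum (MvPolynomial (Fin d) A ⊗[A] B))) := by
      ext p
      refine Iff.trans ?_ (FlatMisc.UnivOpenTest.mem_image_basicOpen_iff (fun i => θ (b i)) (fun i => X i) p).symm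
      rw [show (aeval (R := A) fun i : Fin d => (X i : MvPolynomial (Fin d) A)) = AlgHom.id A _ from
        MvPolynomial.aeval_unique (AlgHom.id A _) |>.symm]
      exact Iff.rfl
    rw [e]
    exact PrimeSpectrum.isConstructible_comap_image (RingHom.finitePresentation_algebraMap.mpr inferInstance)
      PrimeSpectrum.isConstructible_basicOpen
  refine ⟨d, C0, hC0, fun A' _ _ W V fst snd p q sq sq' => ?_⟩
  let ePi := sq'.flip.isoPullback ≪≫ pullbackSpecIso A A' (MvPolynomial (Fin d) A)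
  have hp : p = ePi.hom ≫ Spec.map (CommRingCat.ofHom
      (Algebra.TensorProduct.includeRight (R := A) (A := A') (B := MvPolynomial (Fin d) A)).toRingHom) := by
    simp only [ePi, Iso.trans_hom, Category.assoc, AlgHom.toRingHom_eq_coe]
    rw [← pullbackSpecIso_inv_snd]
    simp
  let ι : MvPolynomial (Fin d) A →ₐ[A] A' ⊗[A] MvPolynomial (Fin d) A := Algebra.TensorProduct.includeRight
  have hpre : IsOpen (p ⁻¹' (C0 : Set (Spec (CommRingCat.of (MvPolynomial (Fin d) A))))) ↔
      IsOpen (PrimeSpectrum.comap ι.toRingHom ⁻¹' C0) := by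
    rw [hp, Scheme.Hom.comp_base, TopCat.coe_comp, Set.preimage_comp]
    exact ePi.hom.homeomorph.isOpen_preimage
  rw [hpre]
  constructor
  · intro ho
    let P := A' ⊗[A] MvPolynomial (Fin d) A
    let χ : Spec (CommRingCat.of P) ⟶ Spec (CommRingCat.of A') :=
      Spec.map (CommRingCat.ofHom (Algebra.TensorProduct.includeLeftRingHom : A' →+* P))
    have sq2 := (IsPullback.of_hasPullback snd χ).paste_horiz sq
    have hχ : χ ≫ Spec.map (CommRingCat.ofHom (algebraMap A A')) = Spec.map (CommRingCat.ofHom (algebraMap A P)) := by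
      rw [← Spec.map_comp, ← CommRingCat.ofHom_comp]
    rw [hχ] at sq2
    have h1 := (isOpenMap_snd_iff P sq2).1 (Scheme.Hom.isOpenMap (pullback.snd snd χ))
    let a : Fin d → P := fun i => ι (X i)
    have ha : aeval (R := A) a = ι := (MvPolynomial.aeval_unique ι).symm
    have h2 : PrimeSpectrum.comap ι.toRingHom ⁻¹' C0 = PrimeSpectrum.comap
        (Algebra.TensorProduct.includeLeftRingHom : P →+* P ⊗[A] B) ''
          (PrimeSpectrum.basicOpen (∑ i, a i ⊗ₜ[A] θ (b i)) : Set (PrimeSpectrum (P ⊗[A] B))) := by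
      ext x
      rw [FlatMisc.UnivOpenTest.mem_image_basicOpen_iff (fun i => θ (b i)) a x, ha]
      exact Iff.rfl
    rw [h2]
    exact h1 _ PrimeSpectrum.isOpen_basicOpen
  · intro ho
    refine ⟨MorphismProperty.universally_mk' _ _ fun {T} gT _ ↦ ?_⟩
    wlog hT : ∃ R, T = Spec R generalizing T
    · refine (IsZariskiLocalAtTarget.iff_of_openCover T.affineCover).mpr fun i ↦ ?_
      refine (MorphismProperty.cancel_left_of_respectsIso _
        ((pullbackRightPullbackFstIso ..).inv ≫ (pullbackSymmetry ..).hom) _).mp ?_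
      simpa [Scheme.Cover.pullbackHom] using! this _ _ ⟨_, rfl⟩
    obtain ⟨R, rfl⟩ := hT
    obtain ⟨ψ, rfl⟩ := Spec.map_surjective gT
    have sq2 := (IsPullback.of_hasPullback (Spec.map ψ) snd).flip.paste_horiz sq
    letI algR : Algebra A R := (ψ.hom.comp (algebraMap A A')).toAlgebra
    have hψ : Spec.map ψ ≫ Spec.map (CommRingCat.ofHom (algebraMap A A')) =
        Spec.map (CommRingCat.ofHom (algebraMap A R)) := by
      rw [← Spec.map_comp]
      rfl
    rw [hψ] at sq2
    refine (isOpenMap_snd_iff R sq2).2 (FlatMisc.UnivOpenTest.tensor_isOpenMap fun z => ?_)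
    choose n a hna using fun l => exists_mul_eq_sum θ b hb (g l) (hloc l) R z
    have hD : (PrimeSpectrum.basicOpen z : Set (PrimeSpectrum ((R : Type u) ⊗[A] B))) =
        ⋃ l, (PrimeSpectrum.basicOpen (∑ i, a l i ⊗ₜ[A] θ (b i)) : Set (PrimeSpectrum ((R : Type u) ⊗[A] B))) := by
      ext x
      simp only [Set.mem_iUnion, SetLike.mem_coe, PrimeSpectrum.mem_basicOpen, ← hna]
      constructor
      · intro hx
        by_contra h
        push_neg at h
        have hl : ∀ l, ((1 : R) ⊗ₜ[A] θ (g l)) ∈ x.asIdeal := fun l =>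
          x.isPrime.mem_of_pow_mem _ ((x.isPrime.mem_or_mem (h l)).resolve_right hx)
        let iR : B →ₐ[A] (R : Type u) ⊗[A] B := Algebra.TensorProduct.includeRight
        have h1 : Ideal.span (Set.range (θ ∘ g)) ≤ x.asIdeal.comap iR := by
          rw [Ideal.span_le]
          rintro _ ⟨l, rfl⟩
          exact hl l
        rw [hspan] at h1
        exact x.isPrime.ne_top ((Ideal.eq_top_iff_one _).mpr (by simpa [iR, Algebra.TensorProduct.one_def] using h1 (Submodule.mem_top (x := 1))))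
      · rintro ⟨l, hl⟩ hx
        exact hl (Ideal.mul_mem_left _ _ hx)
    rw [hD, Set.image_iUnion]
    refine isOpen_iUnion fun l => ?_
    let ψ' : A' →ₐ[A] R := { ψ.hom with commutes' := fun _ => rfl }
    let h : A' ⊗[A] MvPolynomial (Fin d) A →ₐ[A] R :=
      Algebra.TensorProduct.lift ψ' (aeval (a l)) fun _ _ => Commute.all _ _
    have hh : aeval (R := A) (a l) = h.comp ι := (Algebra.TensorProduct.lift_comp_includeRight ψ' (aeval (a l)) fun _ _ => Commute.all _ _).symm
    have h3 : PrimeSpectrum.comap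
        (Algebra.TensorProduct.includeLeftRingHom : (R : Type u) →+* (R : Type u) ⊗[A] B) ''
          (PrimeSpectrum.basicOpen (∑ i, a l i ⊗ₜ[A] θ (b i)) : Set (PrimeSpectrum ((R : Type u) ⊗[A] B))) =
        PrimeSpectrum.comap h.toRingHom ⁻¹' (PrimeSpectrum.comap ι.toRingHom ⁻¹' C0) := by
      ext x
      rw [FlatMisc.UnivOpenTest.mem_image_basicOpen_iff (fun i => θ (b i)) (a l) x, hh]
      exact Iff.rfl
    rw [h3]
    exact ho.preimage (PrimeSpectrum.continuous_comap _)

end

/-- The criterion for affine schemes. -/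
theorem exists_criterion {S X₀ : Scheme.{u}} [IsAffine S] [IsAffine X₀] (f₀ : X₀ ⟶ S)
    [LocallyOfFinitePresentation f₀] [LocallyQuasiFinite f₀] :
    ∃ (T : Scheme.{u}) (_ : IsAffine T) (g₀ : T ⟶ S) (C : Set T), Topology.IsConstructible C ∧
      ∀ {S' : Scheme.{u}} [IsAffine S'] (ψ : S' ⟶ S),
        UniversallyOpen (pullback.snd f₀ ψ) ↔ IsOpen (pullback.fst g₀ ψ ⁻¹' C) := by
  obtain ⟨φ, hφ⟩ := Spec.map_surjective (X₀.isoSpec.inv ≫ f₀ ≫ S.isoSpec.hom)
  have hfp : φ.hom.FinitePresentation := by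
    apply (HasRingHomProperty.Spec_iff (P := @LocallyOfFinitePresentation)).mp
    rw [hφ]; infer_instance
  have hqf : φ.hom.QuasiFinite := by
    apply (HasRingHomProperty.Spec_iff (P := @LocallyQuasiFinite)).mp
    rw [hφ]; infer_instance
  algebraize [φ.hom]
  obtain ⟨d, C0, hC0, hiff⟩ := exists_spec_criterion (A := Γ(S, ⊤)) (B := Γ(X₀, ⊤))
  let g : Spec (CommRingCat.of (MvPolynomial (Fin d) Γ(S, ⊤))) ⟶ Spec Γ(S, ⊤) :=
    Spec.map (CommRingCat.ofHom (algebraMap Γ(S, ⊤) (MvPolynomial (Fin d) Γ(S, ⊤))))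
  refine ⟨_, inferInstance, g ≫ S.isoSpec.inv, C0, hC0, fun {S'} _ ψ => ?_⟩
  obtain ⟨χ, hχ⟩ := Spec.map_surjective (S'.isoSpec.inv ≫ ψ ≫ S.isoSpec.hom)
  letI := χ.hom.toAlgebra
  have hu : IsPullback X₀.isoSpec.hom f₀ (Spec.map φ) S.isoSpec.hom :=
    IsPullback.of_horiz_isIso ⟨by rw [hφ]; simp⟩
  have hv : IsPullback (𝟙 _) (g ≫ S.isoSpec.inv) g S.isoSpec.hom :=
    IsPullback.of_horiz_isIso ⟨by simp⟩
  have hw : ∀ {Z : Scheme.{u}} (z : Z ⟶ S'), IsPullback (𝟙 Z) (z ≫ S'.isoSpec.hom) z S'.isoSpec.inv :=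
    fun z => IsPullback.of_horiz_isIso ⟨by simp⟩
  have sq := (hw _).paste_horiz ((IsPullback.of_hasPullback f₀ ψ).paste_horiz hu)
  have sq' := (hw _).paste_horiz ((IsPullback.of_hasPullback (g ≫ S.isoSpec.inv) ψ).paste_horiz hv)
  rw [← hχ] at sq sq'
  simp only [Category.id_comp, Category.comp_id] at sq sq'
  have key := hiff Γ(S', ⊤) _ _ _ _ sq sq'
  rw [← key]
  exact (MorphismProperty.cancel_right_of_respectsIso (P := @UniversallyOpen) _ _).symm

end Groth.Agent.UnivOpenDesc
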